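import Cfsg.Agent.S1708
import Cfsg.Agent.S2046
import Cfsg.Agent.Lib.Helper6.Mult.DCov
import Cfsg.Agent.Lib.Helper6.Mult.U62E3
import Cfsg.Agent.Lib.Helper1.Stem12
import Cfsg.Agent.Lib.Helper1.Stem14
import Cfsg.Agent.Lib.Helper5.StemRes
import Cfsg.Agent.Lib.Helper2.HNA.WP

set_option autoImplicit false
set_option maxRecDepth 100000

/-! # The subgroup `2.HS` of index two of the point stabiliser `2.HS.2` of the Harada–Norton
group on 1539000 points: it is perfect and its stem extensions are trivial -/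

namespace Cfsg.Agent.Lib.Helper2.HNMult

open Cfsg.Spor Cfsg.Agent.Lib.Helper6.TC Cfsg.Agent.Lib.Helper6.TCP
open Cfsg.Agent.Lib.Helper2.HNS Cfsg.Agent.Lib.Helper2.HNA
open Cfsg.Agent.Lib.Helper1 Cfsg.Agent.Lib.Helper6

/-- the point stabiliser `2.HS.2`, generated by `x, y, z` -/
noncomputable abbrev KH : Subgroup HNG := subH HN.Rels HNBig.S

theorem perfect_HS : commutator ↥Cfsg.Spor.HS = ⊤ := by
  obtain ⟨⟨e⟩, hs, hc⟩ := Cfsg.Agent.Lib.Helper1.HSI.nonempty_HS_equiv
  have := hs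
  apply Stem.commutator_eq_top_of_equiv e.symm
  apply U62E3.perfect_of_simple_not_prime
  rw [hc]
  norm_num

/-- the stem extensions of the Higman–Sims group have cyclic kernels of orders dividing 2 -/
theorem hub_HS (Γ : Type) [Group Γ] [Finite Γ] (τ : Γ →* ↥Cfsg.Spor.HS)
    (hτ : Cfsg.IsStemExtension τ) : IsCyclic τ.ker ∧ Nat.card τ.ker ∣ 2 := by
  obtain ⟨π, hπ⟩ := Cfsg.Agent.S2046.result.2 Γ τ hτ
  constructor
  · exact isCyclic_of_surjective π hπ
  · have h1 := Subgroup.card_mul_index π.ker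
    rw [Subgroup.index_ker, MonoidHom.range_eq_top.mpr hπ, Subgroup.card_top] at h1
    have h2 : Nat.card (Multiplicative (ZMod 2)) = 2 := by
      rw [Nat.card_eq_fintype_card]
      rfl
    rw [h2] at h1
    exact ⟨_, by rw [mul_comm]; exact h1.symm⟩

/-- the facts on the subgroup `2.HS` which the proof uses -/
structure SubHyp (K' : Subgroup ↥KH) : Prop where
  idx : K'.index = 2
  perf : commutator ↥K' = ⊤
  stem : ∀ (Γ : Type) [Group Γ] [Finite Γ] (σ : Γ →* ↥K'),
    Cfsg.IsStemExtension σ → Nat.card σ.ker = 1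

theorem exists_sub : ∃ K' : Subgroup ↥KH, SubHyp K' := by
  obtain ⟨K', _, hidx, hdc⟩ := Cfsg.Agent.S1708.result
  have : Finite HNG := finite_HNG
  refine ⟨K', hidx, DCov.perfect_of_nonsplit hdc perfect_HS, ?_⟩
  intro Γ _ _ σ hσ
  have h := DCov.card_ker_mul_two_dvd hdc perfect_HS 2 hub_HS Γ σ hσ
  have h1 : Nat.card σ.ker * 2 ≤ 2 := Nat.le_of_dvd (by norm_num) h
  have h0 : 0 < Nat.card σ.ker := Nat.card_pos
  omega

section

variable {K' : Subgroup ↥KH} (H : SubHyp K')
include H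

/-- the subgroup `2.HS` as a subgroup of the whole group -/
noncomputable abbrev K1 (K' : Subgroup ↥KH) : Subgroup HNG := K'.map KH.subtype

theorem K1_le : K1 K' ≤ KH := by
  rintro _ ⟨k, _, rfl⟩
  exact k.2

/-- the isomorphism of the two forms of the subgroup -/
noncomputable def eK1 (K' : Subgroup ↥KH) : ↥K' ≃* ↥(K1 K') :=
  K'.equivMapOfInjective KH.subtype Subtype.val_injective

omit H in
theorem card_K1 : Nat.card (K1 K') = Nat.card K' := (Nat.card_congr (eK1 K').toEquiv).symm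

theorem card_KH : Nat.card KH = 2 * Nat.card (K1 K') := by
  rw [card_K1, ← Subgroup.card_mul_index K', H.idx, mul_comm]

theorem perfect_K1 : commutator ↥(K1 K') = ⊤ :=
  Stem.commutator_eq_top_of_equiv (eK1 K') H.perf

omit H in
theorem mem_K1_iff (k : ↥KH) : (k : HNG) ∈ K1 K' ↔ k ∈ K' := by
  constructor
  · rintro ⟨k', hk', e⟩
    have : k' = k := Subtype.ext e
    rwa [← this]
  · intro hk
    exact ⟨k, hk, rfl⟩

/-- the stem extensions of the subgroup `2.HS` of the whole group are trivial -/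
theorem stem_K1 (Γ : Type) [Group Γ] [Finite Γ] (σ : Γ →* ↥(K1 K'))
    (hσ : Cfsg.IsStemExtension σ) : Nat.card σ.ker = 1 := by
  have h1 := Stem.isStem_comp_equiv (MulEquiv.refl Γ) (eK1 K').symm σ hσ
  have h2 := H.stem Γ _ h1
  rw [Nat.card_congr (Stem.kerEquiv (MulEquiv.refl Γ) (eK1 K').symm σ).toEquiv] at h2
  exact h2

/-- the stem extensions of the point stabiliser with kernels of odd prime power order are
trivial -/
theorem stem_KH (p : ℕ) [hp : Fact p.Prime] (hp2 : p ≠ 2) (Γ : Type) [Group Γ] [Finite Γ]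
    (σ : Γ →* ↥KH) (hσ : Cfsg.IsStemExtension σ) (hk : IsPGroup p σ.ker) :
    Nat.card σ.ker ≤ 1 := by
  have : Finite HNG := finite_HNG
  apply Cfsg.Agent.Lib.Helper5.StemRes.card_ker_le_of_index_coprime σ hσ p hk K' ?_ 1
  · intro Γ' _ _ σ' hσ' _
    exact le_of_eq (H.stem Γ' σ' hσ')
  · rw [H.idx]
    intro hd
    exact hp2 ((Nat.prime_dvd_prime_iff_eq hp.out Nat.prime_two).mp hd)

end

end Cfsg.Agent.Lib.Helper2.HNMult
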