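import Cfsg.Agent.Lib.Helper2.HNMult.Group
import Cfsg.Agent.Lib.Helper2.HNMult.Sub
import Cfsg.Agent.Lib.Helper2.HNMult.P2.VB
import Cfsg.Agent.Lib.Helper2.HNMult.P2.Mat
import Cfsg.Agent.Lib.Helper2.HNMult.P2.Struct
import Cfsg.Agent.Lib.Helper2.HNMult.P3.VB
import Cfsg.Agent.Lib.Helper2.HNMult.P3.Mat
import Cfsg.Agent.Lib.Helper2.HNMult.P3.Struct
import Cfsg.Agent.Lib.Helper2.HNMult.P5.VB
import Cfsg.Agent.Lib.Helper2.HNMult.P5.Mat
import Cfsg.Agent.Lib.Helper2.HNMult.P5.Struct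
import Cfsg.Agent.Lib.Helper4.Sparse.GroupA
import Cfsg.Agent.Lib.Helper1.Stem21
import Cfsg.Agent.Lib.Helper1.Stem17
import Cfsg.Agent.Lib.Helper6.Mult.PM4

set_option autoImplicit false
set_option maxRecDepth 100000

/-! # The multiplier of the Harada–Norton group is trivial, from the checked facts -/

namespace Cfsg.Agent.Lib.Helper2.HNMult

open Cfsg.Spor Cfsg.Agent.Lib.Helper6.TC Cfsg.Agent.Lib.Helper6.TCP
open Cfsg.Agent.Lib.Helper2.HNS Cfsg.Agent.Lib.Helper2.HNA
open Cfsg.Agent.Lib.Helper1.StemSA Cfsg.Agent.Lib.Helper1.MatCode Cfsg.Agent.Lib.Helper4.Sparse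
open Cfsg.Agent.Lib.Helper1

set_option Elab.async false in
theorem rels2_chk : P2.rels.all chkRule = true := by decide +kernel

set_option Elab.async false in
theorem rels3_chk : P3.rels.all chkRule = true := by decide +kernel

set_option Elab.async false in
theorem rels5_chk : P5.rels.all chkRule = true := by decide +kernel

section

variable {K' : Subgroup ↥KH} (H : SubHyp K')
include H

/-- the kernels which are 2-groups -/
theorem bound2 (Γ : Type) [Group Γ] [Finite Γ] (σ : Γ →* HNG) (hσ : Cfsg.IsStemExtension σ)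
    (hk : IsPGroup 2 σ.ker) : Nat.card σ.ker ≤ 1 := by
  haveI : Fact (Nat.Prime 2) := ⟨Nat.prime_two⟩
  haveI : Finite HNG := finite_HNG
  letI := actHN
  obtain ⟨a, ha⟩ := IsPGroup.iff_card.mp hk
  obtain ⟨Q, iQ, iC, q, hq, hQ, hK₁⟩ := Cfsg.Agent.Lib.Helper6.PM.exists_quot_two
    KH (K1 K') (K1_le H) (card_KH H)
  have hS : P2.D.chkStruct = true := P2.chkStruct_of piHN_lt
  have h := card_ker_mul_le_pow_mul_valsN.{0} 2 P2.D 1 (P2.vb hS) hS
    (by show 0 < 1539000; norm_num) P2.D_ords P2.hkr P2.Em P2.Fm _ P2.hDt P2.hEm P2.hEF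
    ptHN gsHN gsHN_gen pt_zero_HN pi_act_HN (hrel_HN P2.rels rels2_chk) KH stab_HN q hq 1 hQ
    (K1 K') (K1_le H) hK₁ (perfect_K1 H) 1
    (fun Γ' _ _ σ' hσ' _ => le_of_eq (stem_K1 H Γ' σ' hσ')) Γ σ hσ a ha
  omega

/-- the kernels which are 3-groups -/
theorem bound3 (Γ : Type) [Group Γ] [Finite Γ] (σ : Γ →* HNG) (hσ : Cfsg.IsStemExtension σ)
    (hk : IsPGroup 3 σ.ker) : Nat.card σ.ker ≤ 1 := by
  haveI : Fact (Nat.Prime 3) := ⟨Nat.prime_three⟩
  haveI : Finite HNG := finite_HNG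
  letI := actHN
  obtain ⟨Q, iQ, iC, q, hq, hQ, hK₁⟩ := Cfsg.Agent.Lib.Helper6.PM.exists_quot_two
    KH (K1 K') (K1_le H) (card_KH H)
  haveI : Finite Q := Nat.finite_of_card_ne_zero (by rw [hQ]; norm_num)
  have hS : P3.D.chkStruct = true := P3.chkStruct_of piHN_lt
  have h := card_ker_le_pow_mul_cycN.{0} 3 P3.D 0 (P3.vb hS) hS
    (by show 0 < 1539000; norm_num) P3.D_ords P3.hkr P3.Em P3.Fm _ P3.hDt P3.hEm P3.hEF
    ptHN gsHN gsHN_gen pt_zero_HN pi_act_HN (hrel_HN P3.rels rels3_chk) KH stab_HN q hq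
    (by rw [hQ]; norm_num) (K1 K') (K1_le H) hK₁ (perfect_K1 H) 1
    (fun Γ' _ _ σ' hσ' hk' => stem_KH H 3 (by norm_num) Γ' σ' hσ' hk') Γ σ hσ hk
  omega

/-- the kernels which are 5-groups -/
theorem bound5 (Γ : Type) [Group Γ] [Finite Γ] (σ : Γ →* HNG) (hσ : Cfsg.IsStemExtension σ)
    (hk : IsPGroup 5 σ.ker) : Nat.card σ.ker ≤ 1 := by
  haveI : Fact (Nat.Prime 5) := ⟨by norm_num⟩
  haveI : Finite HNG := finite_HNG
  letI := actHN
  obtain ⟨Q, iQ, iC, q, hq, hQ, hK₁⟩ := Cfsg.Agent.Lib.Helper6.PM.exists_quot_two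
    KH (K1 K') (K1_le H) (card_KH H)
  haveI : Finite Q := Nat.finite_of_card_ne_zero (by rw [hQ]; norm_num)
  have hS : P5.D.chkStruct = true := P5.chkStruct_of piHN_lt
  have h := card_ker_le_pow_mul_cycN.{0} 5 P5.D 0 (P5.vb hS) hS
    (by show 0 < 1539000; norm_num) P5.D_ords P5.hkr P5.Em P5.Fm _ P5.hDt P5.hEm P5.hEF
    ptHN gsHN gsHN_gen pt_zero_HN pi_act_HN (hrel_HN P5.rels rels5_chk) KH stab_HN q hq
    (by rw [hQ]; norm_num) (K1 K') (K1_le H) hK₁ (perfect_K1 H) 1
    (fun Γ' _ _ σ' hσ' hk' => stem_KH H 5 (by norm_num) Γ' σ' hσ' hk') Γ σ hσ hk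
  omega

end

theorem not_sq_dvd (p : ℕ) (hp : p.Prime) (h2 : p ≠ 2) (h3 : p ≠ 3) (h5 : p ≠ 5) :
    ¬ p * p ∣ 273030912000000 := by
  intro h
  have hd : p ∣ 273030912000000 := dvd_trans (dvd_mul_right p p) h
  have e : (273030912000000 : ℕ) = 2 ^ 14 * 3 ^ 6 * 5 ^ 6 * 7 * 11 * 19 := by norm_num
  rw [e] at hd
  have key : ∀ q : ℕ, q.Prime → p ∣ q → p * p ∣ 273030912000000 → q * q ∣ 273030912000000 := by
    intro q hq hpq hh
    rw [(Nat.prime_dvd_prime_iff_eq hp hq).mp hpq] at hh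
    exact hh
  rcases (Nat.Prime.dvd_mul hp).mp hd with hd | hd
  · rcases (Nat.Prime.dvd_mul hp).mp hd with hd | hd
    · rcases (Nat.Prime.dvd_mul hp).mp hd with hd | hd
      · rcases (Nat.Prime.dvd_mul hp).mp hd with hd | hd
        · rcases (Nat.Prime.dvd_mul hp).mp hd with hd | hd
          · exact h2 ((Nat.prime_dvd_prime_iff_eq hp Nat.prime_two).mp (hp.dvd_of_dvd_pow hd))
          · exact h3 ((Nat.prime_dvd_prime_iff_eq hp Nat.prime_three).mp
              (hp.dvd_of_dvd_pow hd))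
        · exact h5 ((Nat.prime_dvd_prime_iff_eq hp (by norm_num : Nat.Prime 5)).mp
            (hp.dvd_of_dvd_pow hd))
      · have := key 7 (by norm_num) hd h
        norm_num at this
    · have := key 11 (by norm_num) hd h
      norm_num at this
  · have := key 19 (by norm_num) hd h
    norm_num at this

/-- the kernel of a stem extension of the Harada–Norton group is trivial -/
theorem card_ker_eq_one (Γ : Type) [Group Γ] [Finite Γ] (σ : Γ →* HNG)
    (hσ : Cfsg.IsStemExtension σ) : Nat.card σ.ker = 1 := by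
  haveI : Finite HNG := finite_HNG
  obtain ⟨K', H⟩ := exists_sub
  have hd : Nat.card σ.ker ∣ 1 := by
    apply Stem.card_dvd_of_primary σ 1 (by norm_num) ?_ hσ
    intro p hp Γ' _ _ σ' hσ' hk
    have h0 : 0 < Nat.card σ'.ker := Nat.card_pos
    have hone : Nat.card σ'.ker = 1 := by
      by_cases h2 : p = 2
      · subst h2
        have h1 := bound2 H Γ' σ' hσ' hk
        omega
      · by_cases h3 : p = 3
        · subst h3
          have h1 := bound3 H Γ' σ' hσ' hk
          omega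
        · by_cases h5 : p = 5
          · subst h5
            have h1 := bound5 H Γ' σ' hσ' hk
            omega
          · apply Stem.card_ker_eq_one_of_not_sq_dvd σ' hσ' p hk
            rw [card_HNG]
            exact not_sq_dvd p hp.out h2 h3 h5
    rw [hone]
  exact Nat.eq_one_of_dvd_one hd

/-- **the multiplier of the Harada–Norton group is trivial** -/
theorem multiplier : Cfsg.HasCyclicSchurMultiplier HNG 1 := by
  haveI : Finite HNG := finite_HNG
  apply Stem.hasCyclicSchurMultiplier_of_equiv (MulEquiv.refl HNG) 1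
  · refine ⟨HNG, inferInstance, inferInstance, MonoidHom.id HNG, ?_, ?_, ?_⟩
    · refine ⟨Function.surjective_id, ?_, ?_⟩
      · rw [MonoidHom.ker_id]
        exact bot_le
      · rw [MonoidHom.ker_id]
        exact bot_le
    · rw [MonoidHom.ker_id]
      exact isCyclic_of_subsingleton
    · rw [MonoidHom.ker_id]
      exact Subgroup.card_bot
  · intro Γ _ _ σ hσ
    have h1 := card_ker_eq_one Γ σ hσ
    constructor
    · haveI : Subsingleton σ.ker := (Nat.card_eq_one_iff_unique.mp h1).1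
      exact isCyclic_of_subsingleton
    · rw [h1]

end Cfsg.Agent.Lib.Helper2.HNMult
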