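import Cfsg.Agent.Lib.Helper2.HNMult.Pi
import Cfsg.Agent.Lib.Helper2.HNA.WP
import Cfsg.Agent.Lib.Helper4.Sparse.GroupB

set_option autoImplicit false
set_option maxRecDepth 100000

/-! # The labelled action of the presented Harada–Norton group on 1539000 points: the hypotheses
of the bounds of the sparse engine, from the permutation representation given by the tables -/

namespace Cfsg.Agent.Lib.Helper2.HNMult

open Cfsg.Spor Cfsg.Agent.Lib.Helper6.TC Cfsg.Agent.Lib.Helper6.TCP
open Cfsg.Agent.Lib.Helper2.HNS Cfsg.Agent.Lib.Helper2.HNA Cfsg.Agent.Lib.Helper2.HNDce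
open Cfsg.Agent.Lib.Helper1.StemSA Cfsg.Agent.Lib.Helper1.MatCode Cfsg.Agent.Lib.Helper4.Sparse

theorem piHN_eq (i : ℕ) (hi : i < 7) (j : ℕ) : piHN i j = HNBig.px (ic i) j := by
  interval_cases i <;> rfl

/-- the action of the group on the points through the representation -/
@[reducible] noncomputable def actHN : MulAction HNG (Fin HNBig.N) :=
  MulAction.compHom (Fin HNBig.N) phiB

/-- the points -/
def ptHN (j : ℕ) : Fin HNBig.N := if h : j < HNBig.N then ⟨j, h⟩ else ⟨0, HNBig.hP.Npos⟩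

theorem ptHN_val {j : ℕ} (h : j < HNBig.N) : (ptHN j).val = j := by
  unfold ptHN
  rw [dif_pos h]

theorem ptHN_eq (p : Fin HNBig.N) : ptHN p.val = p := by
  apply Fin.ext
  rw [ptHN_val p.isLt]

/-- the images of the letters -/
noncomputable def gsHN : List HNG :=
  [ev7 [0], ev7 [1], ev7 [2], ev7 [3], ev7 [4], ev7 [5], ev7 [6]]

theorem gsHN_getD (i : ℕ) (hi : i < 7) : gsHN.getD i 1 = ev7 [i] := by
  interval_cases i <;> rfl

theorem wordProd_gsHN (w : List ℕ) (hw : ∀ c ∈ w, c < 7) : wordProd gsHN w = ev7 w := by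
  induction w with
  | nil => rw [wordProd_nil, ev7_nil]
  | cons c w ih =>
    rw [wordProd_cons, ev7_cons, ih (fun d hd => hw d (List.mem_cons_of_mem _ hd)),
      gsHN_getD c (hw c List.mem_cons_self)]

theorem gsHN_gen : Subgroup.closure {g : HNG | ∃ i < 7, g = gsHN.getD i 1} = ⊤ := by
  rw [eq_top_iff, ← PresentedGroup.closure_range_of]
  apply Subgroup.closure_mono
  rintro _ ⟨i, rfl⟩
  have e : ∀ c : ℕ, ev7 [c] = PresentedGroup.mk HN.Rels (ceOf HN.gc c) := by
    intro c
    unfold ev7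
    rw [wordElt_cons, wordElt_nil, mul_one]
  cases i with
  | x => exact ⟨0, by norm_num, by rw [gsHN_getD 0 (by norm_num), e, HN.ce0]; rfl⟩
  | y => exact ⟨2, by norm_num, by rw [gsHN_getD 2 (by norm_num), e, HN.ce2]; rfl⟩
  | z => exact ⟨4, by norm_num, by rw [gsHN_getD 4 (by norm_num), e, HN.ce4]; rfl⟩
  | t => exact ⟨5, by norm_num, by rw [gsHN_getD 5 (by norm_num), e, HN.ce5]; rfl⟩

theorem piHN_lt (i : ℕ) (hi : i < 7) (j : ℕ) (hj : j < 1539000) : piHN i j < 1539000 := by
  rw [piHN_eq i hi]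
  exact HNBig.hP.hlt (ic i) (ic_lt7 hi) j hj

/-- the action of a letter on a point -/
theorem phi_letter (i : ℕ) (hi : i < 7) (p : Fin HNBig.N) :
    (phiB (ev7 [i]) p).val = piHN i p.val := by
  have h := phiB_act [ic i] (by intro c hc; rw [List.mem_singleton] at hc; rw [hc]; exact ic_lt7 hi) p
  rw [wapp_cons, wapp_nil] at h
  have e : W7.ev [ic i] = (ev7 [i])⁻¹ := by
    have := ev7_iw [i] (by intro c hc; rw [List.mem_singleton] at hc; rw [hc]; exact hi)
    exact this
  rw [e, map_inv, inv_inv] at h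
  rw [h, piHN_eq i hi]

theorem pi_act_HN (i : ℕ) (hi : i < 7) (j : ℕ) (hj : j < 1539000) :
    letI := actHN
    gsHN.getD i 1 • ptHN j = ptHN (piHN i j) := by
  rw [gsHN_getD i hi]
  apply Fin.ext
  rw [ptHN_val (piHN_lt i hi j hj)]
  show (phiB (ev7 [i]) (ptHN j)).val = _
  rw [phi_letter i hi, ptHN_val hj]

theorem pt_zero_HN : ∀ j < 1539000, ptHN j = ptHN 0 → j = 0 := by
  intro j hj h
  have := congrArg Fin.val h
  rwa [ptHN_val hj, ptHN_val HNBig.hP.Npos] at this

/-- the check of a relation between two words: the quotient fixes the six base points -/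
noncomputable def chkRule (w : List ℕ × List ℕ) : Bool :=
  w.1.all (fun c => decide (c < 7)) && w.2.all (fun c => decide (c < 7)) &&
    base6.all (fun b => Nat.beq (wapp HNBig.px (w.1 ++ iw w.2) b) b)

theorem rule_of_chk (w : List ℕ × List ℕ) (h : chkRule w = true) :
    wordProd gsHN w.1 = wordProd gsHN w.2 := by
  unfold chkRule at h
  rw [Bool.and_eq_true, Bool.and_eq_true, List.all_eq_true, List.all_eq_true,
    List.all_eq_true] at h
  obtain ⟨⟨h1, h2⟩, h3⟩ := h
  have hw1 : ∀ c ∈ w.1, c < 7 := fun c hc => of_decide_eq_true (h1 c hc)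
  have hw2 : ∀ c ∈ w.2, c < 7 := fun c hc => of_decide_eq_true (h2 c hc)
  have hw : ∀ c ∈ w.1 ++ iw w.2, c < 7 := by
    intro c hc
    rcases List.mem_append.mp hc with hc | hc
    · exact hw1 c hc
    · exact iw_lt7 hw2 c hc
  have ht := word_trivial (w.1 ++ iw w.2) hw (fun b hb => Nat.eq_of_beq_eq_true (h3 b hb))
  rw [ev7_append, ev7_iw w.2 hw2] at ht
  rw [wordProd_gsHN w.1 hw1, wordProd_gsHN w.2 hw2]
  exact mul_inv_eq_one.mp ht

theorem hrel_HN (rels : List (List ℕ × List ℕ)) (h : rels.all chkRule = true) :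
    ∀ w ∈ rels, wordProd gsHN w.1 = wordProd gsHN w.2 := by
  intro w hw
  exact rule_of_chk w (List.all_eq_true.mp h w hw)

/-- the stabiliser of the point `0` is the subgroup generated by `x, y, z` -/
theorem stab_HN : subH HN.Rels HNBig.S =
    (letI := actHN; MulAction.stabilizer HNG (ptHN 0)) := by
  let _ := actHN
  have e0 : ptHN 0 = ⟨0, HNBig.hP.Npos⟩ := Fin.ext (ptHN_val HNBig.hP.Npos)
  ext g
  rw [MulAction.mem_stabilizer_iff, e0]
  constructor
  · intro hg
    exact phiB_fix g hg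
  · intro hg
    exact mem_of_fix_zero g hg

end Cfsg.Agent.Lib.Helper2.HNMult
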