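import Cfsg.Agent.Lib.Helper4.Sparse.Check

set_option autoImplicit false

/-! # A faster check of the sparse certificates with many relations: the relation with a given
number is looked up by a function (a tree of comparisons) giving the reversed words, instead of
walking along the list of the relations -/

namespace Cfsg.Agent.Lib.Helper2.SparseF

open Cfsg.Agent.Lib.Helper1.StemSA Cfsg.Agent.Lib.Helper4.Sparse Cfsg.Agent.Lib.Helper6.TC

section check

variable (D : SAData) (C : SCert) (relF : ℕ → List ℕ × List ℕ) (nr : ℕ)

/-- the check of the equation of a general relation, the reversed words given by `relF` -/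
noncomputable def chkRelF (b rb r j : ℕ) : Bool :=
  band (Nat.ble D.k r) (band (Nat.blt (r - D.k) nr) (band (Nat.blt j D.m)
    (walkC D.m D.pi C.ent C.valE (C.flagE b rb) (relF (r - D.k)).1
      (fun p1 S1 bad1 =>
        walkC D.m D.pi C.ent C.valE (C.flagE b rb) (relF (r - D.k)).2
          (fun p2 S2 bad2 =>
            sB (fun e => band (Nat.beq p1 p2) (band (Nat.blt bad1 65536) (band
              (Nat.blt (bad2 + C.flagE b rb (D.k * D.m + (r - D.k)) e) 65536) (band
              (Nat.beq (Nat.gcd (bad1 + (C.q - 1) *
                (bad2 + C.flagE b rb (D.k * D.m + (r - D.k)) e)) C.q) 1)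
              (C.congB S1 (S2 + C.valE e)))))) (C.ent (D.k * D.m + (r - D.k))))
          j 0 0)
      j 0 0)))

/-- the check of the equation with the code `s1 * m + j` -/
noncomputable def chkEqF (b vb rb s1 j : ℕ) : Bool :=
  Nat.rec (motive := fun _ => Bool) (chkTree D C b vb j)
    (fun r _ => chkRelF D C relF nr b rb r j) s1

/-- the check of the entry of an unknown; `tc` is the first code which is not the code of an
equation -/
noncomputable def chkCodeF (tc b vb rb code : ℕ) : Bool :=
  cond (Nat.blt code tc)
    (chkEqF D C relF nr b vb rb (code / D.m) (code % D.m))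
    (cond (Nat.beq code tc)
      (band (Nat.ble (D.k * D.m) b) (band (Nat.blt b (D.k * D.m + C.nn)) (Nat.beq vb 0)))
      (band (Nat.blt (code - tc - 1) C.T)
        (band (Nat.beq (C.gs (code - tc - 1)) b)
          (Nat.beq vb (2 ^ (C.W * (code - tc - 1)))))))

/-- the check of an unknown -/
noncomputable def chkUF (tc b : ℕ) : Bool :=
  sB (fun e => band (C.fieldsLe (C.valE e))
    (chkCodeF D C relF nr tc b (C.valE e) (C.rkE e) (C.eqE e))) (C.ent b)

/-- the check of a range of unknowns -/
noncomputable def chkURangeF (tc lo cnt : ℕ) : Bool :=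
  allB (fun i => chkUF D C relF nr tc (lo + i)) cnt

/-- the hypotheses on the function giving the relations -/
structure RelFHyp : Prop where
  hnr : nr = D.rels.length
  hF : ∀ r < nr, relF r =
    ((D.rels.getD r ([], [])).1.reverse, (D.rels.getD r ([], [])).2.reverse)

variable {D relF nr}

theorem chkRelF_eq (H : RelFHyp D relF nr) (b rb r j : ℕ) :
    chkRelF D C relF nr b rb r j = chkRel D C b rb r j := by
  unfold chkRelF chkRel
  rw [← H.hnr]
  by_cases h : r - D.k < nr
  · rw [H.hF _ h]
  · have hb : Nat.blt (r - D.k) nr = false := by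
      rw [Bool.eq_false_iff]
      intro hh
      exact h (Nat.blt_eq.mp hh)
    rw [hb]
    have e : ∀ x y : Bool, band x (band false y) = band x (band false (band true false)) := by
      intro x y
      cases x <;> rfl
    rw [e, e (Nat.ble D.k r) (band (Nat.blt j D.m) _)]

theorem chkEqF_eq (H : RelFHyp D relF nr) (b vb rb s1 j : ℕ) :
    chkEqF D C relF nr b vb rb s1 j = chkEq D C b vb rb s1 j := by
  unfold chkEqF chkEq
  cases s1 with
  | zero => rfl
  | succ r => exact chkRelF_eq C H b rb r j

theorem chkCodeF_eq (H : RelFHyp D relF nr) (b vb rb code : ℕ) :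
    chkCodeF D C relF nr (topCode D) b vb rb code = chkCode D C b vb rb code := by
  unfold chkCodeF chkCode
  rw [chkEqF_eq C H]

theorem chkUF_eq (H : RelFHyp D relF nr) (b : ℕ) :
    chkUF D C relF nr (topCode D) b = chkU D C b := by
  unfold chkUF chkU
  rw [sB_eq, sB_eq, chkCodeF_eq C H]

theorem chkURangeF_spec (H : RelFHyp D relF nr) (tc : ℕ) (htc : tc = topCode D) (lo cnt : ℕ)
    (h : chkURangeF D C relF nr tc lo cnt = true) (b : ℕ) (h1 : lo ≤ b) (h2 : b < lo + cnt) :
    chkU D C b = true := by
  subst htc
  have := allB_spec h (b - lo) (by omega)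
  have e : lo + (b - lo) = b := by omega
  rw [e, chkUF_eq C H] at this
  exact this

end check

end Cfsg.Agent.Lib.Helper2.SparseF
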