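import Cfsg.Agent.Lib.Helper2.HNBig.Par

set_option autoImplicit false

/-! # The tables of the left action of the seven letters of the Harada–Norton group on 1539000
points: a letter acts by the table of the inverse column -/

namespace Cfsg.Agent.Lib.Helper2.HNMult

open Cfsg.Agent.Lib.Helper2

/-- the action of the letters on the points -/
noncomputable def piHN (i j : Nat) : Nat :=
  Nat.rec (motive := fun _ => Nat) (HNBig.P1 j) (fun k0 _ =>
    Nat.rec (motive := fun _ => Nat) (HNBig.P0 j) (fun k1 _ =>
      Nat.rec (motive := fun _ => Nat) (HNBig.P3 j) (fun k2 _ =>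
        Nat.rec (motive := fun _ => Nat) (HNBig.P2 j) (fun k3 _ =>
          Nat.rec (motive := fun _ => Nat) (HNBig.P4 j) (fun k4 _ =>
            Nat.rec (motive := fun _ => Nat) (HNBig.P6 j) (fun _ _ => HNBig.P5 j) k4) k3) k2) k1) k0) i

end Cfsg.Agent.Lib.Helper2.HNMult
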